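import Mathlib
import Groth.Prelude.Def_Cyc
import Groth.Agent.Lib.Helper7.PDeg.Graph

set_option linter.style.haveILetI false
set_option linter.unusedVariables false
set_option linter.unusedSectionVars false
set_option autoImplicit false
set_option backward.isDefEq.respectTransparency.types false
set_option synthInstance.maxHeartbeats 400000
set_option maxHeartbeats 1600000

namespace Groth.Agent.Helper7.PushRat

open CategoryTheory CategoryTheory.Limits AlgebraicGeometry TopologicalSpace Opposite IsLocalRing
open Groth.Agent.Helper7.PDeg

universe u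

/-! helper7: the closure of a point as an integral closed subscheme (scheme theoretic image of the spectrum of the residue field), its generic point, and the induced map between closures of a point and of its image -/

section Pt

variable {X : Scheme.{u}} (ξ : X)

noncomputable instance uniqueSpecRF : Unique (Spec (X.residueField ξ)) :=
  inferInstanceAs (Unique (PrimeSpectrum (X.residueField ξ)))

instance quasiCompact_fromSpecResidueField : QuasiCompact (X.fromSpecResidueField ξ) :=
  ⟨fun U _ _ => (Set.toFinite _).isCompact⟩

/-- the closure of a point with its reduced structure -/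
noncomputable abbrev WW : Scheme.{u} := (X.fromSpecResidueField ξ).image

/-- the closed immersion of the closure of a point -/
noncomputable abbrev iW : WW ξ ⟶ X := (X.fromSpecResidueField ξ).imageι

/-- the map from the spectrum of the residue field -/
noncomputable abbrev tW : Spec (X.residueField ξ) ⟶ WW ξ := (X.fromSpecResidueField ξ).toImage

instance isReduced_WW : IsReduced (WW ξ) := by
  haveI : ∀ i, IsReduced (((X.fromSpecResidueField ξ).ker.subschemeCover.openCover).X i) := by
    intro U
    haveI : _root_.IsReduced (Γ(X, U.1) ⧸ (X.fromSpecResidueField ξ).ker.ideal U) :=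
      isReduced_quot_of_eq_ker _ ((X.fromSpecResidueField ξ).app U.1).hom
        (Scheme.Hom.ker_apply (X.fromSpecResidueField ξ) U)
    show IsReduced (Spec (CommRingCat.of (Γ(X, U.1) ⧸ (X.fromSpecResidueField ξ).ker.ideal U)))
    infer_instance
  exact IsReduced.of_openCover (WW ξ) ((X.fromSpecResidueField ξ).ker.subschemeCover.openCover)

theorem range_tW : Set.range (tW ξ) = {tW ξ default} := by
  ext z
  constructor
  · rintro ⟨t, rfl⟩
    rw [Subsingleton.elim t default]
    rfl
  · rintro rfl
    exact ⟨_, rfl⟩

theorem closure_tW : closure ({tW ξ default} : Set (WW ξ)) = Set.univ := by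
  rw [← range_tW]
  exact (tW ξ).denseRange.closure_range

instance irreducibleSpace_WW : IrreducibleSpace (WW ξ) where
  isPreirreducible_univ := by
    rw [← closure_tW ξ]
    exact isIrreducible_singleton.closure.isPreirreducible
  toNonempty := ⟨tW ξ default⟩

instance isIntegral_WW : IsIntegral (WW ξ) :=
  isIntegral_of_irreducibleSpace_of_isReduced _

theorem tW_default : tW ξ default = genericPoint (WW ξ) := by
  have h1 : IsGenericPoint (tW ξ default) (Set.univ : Set (WW ξ)) := closure_tW ξ
  exact h1.eq (genericPoint_spec (WW ξ))

theorem iW_generic : iW ξ (genericPoint (WW ξ)) = ξ := by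
  rw [← tW_default, ← Scheme.Hom.comp_apply, Scheme.Hom.toImage_imageι]
  exact Scheme.fromSpecResidueField_apply ξ default

end Pt

section Lift

variable {X Y : Scheme.{u}} (p : X ⟶ Y) (ξ : X)

theorem ker_le : (iW (p ξ)).ker ≤ (iW ξ ≫ p).ker := by
  have h1 : (iW (p ξ)).ker = (Y.fromSpecResidueField (p ξ)).ker :=
    Scheme.IdealSheafData.ker_subschemeι _
  have h2 : (iW ξ ≫ p).ker = (X.fromSpecResidueField ξ ≫ p).ker := by
    rw [Scheme.Hom.ker_comp, ← Scheme.IdealSheafData.map_ker]
    congr 1
    exact Scheme.IdealSheafData.ker_subschemeι _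
  rw [h1, h2, ← Scheme.Hom.SpecMap_residueFieldMap_fromSpecResidueField]
  exact Scheme.Hom.le_ker_comp _ _

/-- the induced map on closures of points -/
noncomputable def qW : WW ξ ⟶ WW (p ξ) :=
  IsClosedImmersion.lift (iW (p ξ)) (iW ξ ≫ p) (ker_le p ξ)

theorem qW_fac : qW p ξ ≫ iW (p ξ) = iW ξ ≫ p :=
  IsClosedImmersion.lift_fac _ _ _

end Lift

end Groth.Agent.Helper7.PushRat
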