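import Mathlib
import Groth.Prelude.Def_Cyc
import Groth.Agent.Lib.Helper7.GFib.Main

set_option linter.style.haveILetI false
set_option linter.unusedVariables false
set_option linter.unusedSectionVars false
set_option autoImplicit false
set_option backward.isDefEq.respectTransparency.types false
set_option synthInstance.maxHeartbeats 400000
set_option maxHeartbeats 1600000

namespace Groth.Agent.Helper7.PushRat

open CategoryTheory CategoryTheory.Limits AlgebraicGeometry TopologicalSpace Opposite IsLocalRing
open Groth.Agent.Helper7.DivFin Groth.Agent.Helper7.FinDeg Groth.Agent.Helper7.FinPush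
open Groth.Agent.Helper7.KL Groth.Agent.Helper7.PDeg Groth.Agent.Helper7.GFib

universe u

/-! helper7: commutative squares with closed immersions: residue degrees, transcendence degrees, norms, dimension compatibility; congruence of principal divisors along equal points -/

section Trdeg

/-- the transcendence degree of the residue field extension at a point -/
noncomputable def trdegAt {X Y : Scheme.{u}} (f : X ⟶ Y) (x : X) : Cardinal.{u} :=
  letI := (f.residueFieldMap x).hom.toAlgebra
  Algebra.trdeg (Y.residueField (f x)) (X.residueField x)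

theorem trdegAt_comp {X Y Z : Scheme.{u}} (f : X ⟶ Y) (g : Y ⟶ Z) (x : X) :
    trdegAt (f ≫ g) x = trdegAt g (f x) + trdegAt f x := by
  letI a1 : Algebra (Z.residueField (g (f x))) (Y.residueField (f x)) :=
    (g.residueFieldMap (f x)).hom.toAlgebra
  letI a2 : Algebra (Y.residueField (f x)) (X.residueField x) :=
    (f.residueFieldMap x).hom.toAlgebra
  letI a3 : Algebra (Z.residueField (g (f x))) (X.residueField x) :=
    ((f ≫ g).residueFieldMap x).hom.toAlgebra
  haveI : IsScalarTower (Z.residueField (g (f x))) (Y.residueField (f x)) (X.residueField x) := by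
    apply IsScalarTower.of_algebraMap_eq
    intro a
    change ((f ≫ g).residueFieldMap x).hom a =
      (f.residueFieldMap x).hom ((g.residueFieldMap (f x)).hom a)
    rw [Scheme.residueFieldMap_comp]
    rfl
  haveI : FaithfulSMul (Z.residueField (g (f x))) (Y.residueField (f x)) :=
    (faithfulSMul_iff_algebraMap_injective _ _).mpr (RingHom.injective _)
  haveI : FaithfulSMul (Y.residueField (f x)) (X.residueField x) :=
    (faithfulSMul_iff_algebraMap_injective _ _).mpr (RingHom.injective _)
  exact (_root_.trdeg_add_eq (Z.residueField (g (f x))) (Y.residueField (f x))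
    (A := X.residueField x)).symm

theorem trdegAt_eq_zero_of_bijective {X Y : Scheme.{u}} (f : X ⟶ Y) (x : X)
    (hb : Function.Bijective (f.residueFieldMap x).hom) : trdegAt f x = 0 := by
  unfold trdegAt
  letI := (f.residueFieldMap x).hom.toAlgebra
  haveI : Algebra.IsAlgebraic (Y.residueField (f x)) (X.residueField x) :=
    ⟨fun b => by
      obtain ⟨a, rfl⟩ := hb.2 b
      exact isAlgebraic_algebraMap a⟩
  exact _root_.trdeg_eq_zero

end Trdeg

section Sq

variable {W Z X Y : Scheme.{u}} (i : W ⟶ X) (i' : Z ⟶ Y) (q : W ⟶ Z) (p : X ⟶ Y)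
  (hfac : q ≫ i' = i ≫ p)

include hfac in
theorem pt_eq (w : W) : i' (q w) = p (i w) := by
  show (q ≫ i') w = (i ≫ p) w
  rw [hfac]

include hfac in
theorem resField_sq (w : W) (h : p (i w) = i' (q w)) (a : Y.residueField (p (i w))) :
    (q.residueFieldMap w).hom ((i'.residueFieldMap (q w)).hom
      ((Y.residueFieldCongr h).hom a)) =
      (i.residueFieldMap w).hom ((p.residueFieldMap (i w)).hom a) := by
  have h1 := Scheme.Hom.residueFieldMap_congr hfac.symm w
  rw [Scheme.residueFieldMap_comp, Scheme.residueFieldMap_comp] at h1
  have h2 := DFunLike.congr_fun (congrArg CommRingCat.Hom.hom h1) a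
  simp only [CommRingCat.hom_comp, RingHom.comp_apply] at h2
  exact h2.symm

variable [IsClosedImmersion i] [IsClosedImmersion i']

theorem bij_of_closedImmersion (w : W) : Function.Bijective (i.residueFieldMap w).hom :=
  residueFieldMap_bijective_of_surjective i w (i.stalkMap_surjective w)

include hfac in
theorem residueDegree_sq (w : W) : q.residueDegree w = p.residueDegree (i w) := by
  have h1 := residueDegree_comp' q i' w
  have h2 := residueDegree_comp' i p w
  rw [hfac] at h1
  rw [h1, residueDegree_eq_one_of_bijective i' (q w) (bij_of_closedImmersion i' (q w)),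
    residueDegree_eq_one_of_bijective i w (bij_of_closedImmersion i w), one_mul, mul_one] at h2
  exact h2

include hfac in
theorem trdegAt_sq (w : W) : trdegAt q w = trdegAt p (i w) := by
  have h1 := trdegAt_comp q i' w
  have h2 := trdegAt_comp i p w
  rw [hfac] at h1
  rw [h1, trdegAt_eq_zero_of_bijective i' (q w) (bij_of_closedImmersion i' (q w)),
    trdegAt_eq_zero_of_bijective i w (bij_of_closedImmersion i w), zero_add, add_zero] at h2
  exact h2

include hfac in
theorem deltaCompat_sq (δX : X → ℤ) (δY : Y → ℤ) (hδ : Cyc.DeltaCompat p δX δY) :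
    Cyc.DeltaCompat q (fun w => δX (i w)) (fun z => δY (i' z)) := by
  intro w
  obtain ⟨n, hn, hδn⟩ := hδ (i w)
  refine ⟨n, ?_, ?_⟩
  · have h1 := trdegAt_sq i i' q p hfac w
    change trdegAt q w = n
    rw [h1]
    exact hn
  · show δX (i w) = δY (i' (q w)) + n
    rw [pt_eq i i' q p hfac w]
    exact hδn

include hfac in
theorem mapCoeff_sq (δX : X → ℤ) (δY : Y → ℤ) (w : W) :
    AlgebraicCycle.mapCoeff q (fun w => δX (i w)) (fun z => δY (i' z)) w =
      AlgebraicCycle.mapCoeff p δX δY (i w) := by
  unfold AlgebraicCycle.mapCoeff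
  have h1 : i' (q w) = p (i w) := pt_eq i i' q p hfac w
  show (if δX (i w) = δY (i' (q w)) then q.residueDegree w else 0) =
    (if δX (i w) = δY (p (i w)) then p.residueDegree (i w) else 0)
  rw [h1, residueDegree_sq i i' q p hfac w]

include hfac in
theorem normGen_sq (w : W) (h : p (i w) = i' (q w)) (f : X.residueField (i w)) :
    (i'.residueFieldMap (q w)).hom ((Y.residueFieldCongr h).hom (Cyc.normGen p (i w) f)) =
      Cyc.normGen q w ((i.residueFieldMap w).hom f) := by
  have hb := bij_of_closedImmersion i w
  have hb' := bij_of_closedImmersion i' (q w)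
  unfold Cyc.normGen
  letI a1 : Algebra (Y.residueField (p (i w))) (X.residueField (i w)) :=
    (p.residueFieldMap (i w)).hom.toAlgebra
  letI a2 : Algebra (Z.residueField (q w)) (W.residueField w) :=
    (q.residueFieldMap w).hom.toAlgebra
  let e2 : X.residueField (i w) ≃+* W.residueField w := RingEquiv.ofBijective _ hb
  let e1 : Y.residueField (p (i w)) ≃+* Z.residueField (q w) :=
    (Y.residueFieldCongr h).commRingCatIsoToRingEquiv.trans (RingEquiv.ofBijective _ hb')
  have he : RingHom.comp (algebraMap (Z.residueField (q w)) (W.residueField w))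
      (e1 : Y.residueField (p (i w)) →+* Z.residueField (q w)) =
      RingHom.comp (e2 : X.residueField (i w) →+* W.residueField w)
        (algebraMap (Y.residueField (p (i w))) (X.residueField (i w))) := by
    ext a
    exact resField_sq i i' q p hfac w h a
  have h1 := Algebra.norm_eq_of_equiv_equiv e1 e2 he f
  have h2 : e1 (Algebra.norm (Y.residueField (p (i w))) f) =
      Algebra.norm (Z.residueField (q w)) (e2 f) := by
    rw [h1, RingEquiv.apply_symm_apply]
  exact h2

end Sq

theorem divFun_congr {Y : Scheme.{u}} (δ : Y → ℤ) {a b : Y} (h : a = b) (G : Y.residueField a)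
    (y : Y) :
    Cyc.divFun δ a G y = Cyc.divFun δ b ((Y.residueFieldCongr h).hom G) y := by
  subst h
  rfl

theorem normGen_ne_zero {X Y : Scheme.{u}} (p : X ⟶ Y) (x : X) (g : X.residueField x)
    (hg : g ≠ 0) : Cyc.normGen p x g ≠ 0 := by
  unfold Cyc.normGen
  letI := (p.residueFieldMap x).hom.toAlgebra
  by_cases hfin : Module.Finite (Y.residueField (p x)) (X.residueField x)
  · exact Algebra.norm_ne_zero_iff.mpr hg
  · rw [Algebra.norm_eq_one_of_not_module_finite hfin]
    exact one_ne_zero

end Groth.Agent.Helper7.PushRat
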