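import Mathlib
import Groth.Prelude.Def_Cyc
import Groth.Agent.Lib.Helper7.PushRat.Pt
import Groth.Agent.Lib.Helper7.PushRat.Sq

set_option linter.style.haveILetI false
set_option linter.unusedVariables false
set_option linter.unusedSectionVars false
set_option autoImplicit false
set_option backward.isDefEq.respectTransparency.types false
set_option synthInstance.maxHeartbeats 400000
set_option maxHeartbeats 1600000

namespace Groth.Agent.Helper7.PushRat

open CategoryTheory CategoryTheory.Limits AlgebraicGeometry TopologicalSpace Opposite IsLocalRing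
open Groth.Agent.Helper7.DivFin Groth.Agent.Helper7.FinDeg Groth.Agent.Helper7.FinPush
open Groth.Agent.Helper7.KL Groth.Agent.Helper7.PDeg Groth.Agent.Helper7.GFib

universe u

/-! helper7: the pushforward of a principal divisor along a proper morphism is the principal divisor of the norm (equal dimension) or zero (dimension drops), pointwise -/

section Key

variable {X Y : Scheme.{u}} (δX : X → ℤ) (δY : Y → ℤ)

/-- a single principal divisor is a cycle -/
theorem exists_cycle_single (hX : Cyc.IsSetup X δX) (ξ : X) (f : X.residueField ξ) (hf : f ≠ 0) :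
    ∃ D : AlgebraicCycle X ℤ, ⇑D = Cyc.divFun δX ξ f := by
  obtain ⟨D, hD⟩ := exists_cycle_of_family δX hX PUnit.{u+1} (fun _ => ξ) (fun _ => f)
    (fun _ => hf) (fun x => ⟨Set.univ, isOpen_univ, trivial, Set.toFinite _⟩)
  refine ⟨D, ?_⟩
  funext x
  rw [hD x, finsum_unique]

theorem key_sub (hX : Cyc.IsSetup X δX) (hY : Cyc.IsSetup Y δY)
    (p : X ⟶ Y) [IsProper p] (hδ : Cyc.DeltaCompat p δX δY)
    {W Z : Scheme.{u}} [IsIntegral W] [IsIntegral Z] (i : W ⟶ X) [IsClosedImmersion i]
    (i' : Z ⟶ Y) [IsClosedImmersion i'] (q : W ⟶ Z) (hfac : q ≫ i' = i ≫ p)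
    (hζ : i' (genericPoint Z) = p (i (genericPoint W)))
    (f : X.residueField (i (genericPoint W))) (hf : f ≠ 0) (y : Y) :
    ∑ᶠ x ∈ p ⁻¹' {y}, Cyc.divFun δX (i (genericPoint W)) f x *
        ((AlgebraicCycle.mapCoeff p δX δY x : ℕ) : ℤ) =
      if δX (i (genericPoint W)) = δY (p (i (genericPoint W))) then
        Cyc.divFun δY (p (i (genericPoint W))) (Cyc.normGen p (i (genericPoint W)) f) y
      else 0 := by
  classical
  have hW : Cyc.IsSetup W (fun w => δX (i w)) := isSetup_closedImmersion i δX hX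
  have hZ : Cyc.IsSetup Z (fun z => δY (i' z)) := isSetup_closedImmersion i' δY hY
  have hinj' : Function.Injective i' := i'.isClosedEmbedding.injective
  have hinj : Function.Injective i := i.isClosedEmbedding.injective
  have hind := i.isClosedEmbedding.toIsEmbedding.toIsInducing
  have hind' := i'.isClosedEmbedding.toIsEmbedding.toIsInducing
  have hpt : ∀ w, i' (q w) = p (i w) := pt_eq i i' q p hfac
  have hgen : q (genericPoint W) = genericPoint Z := hinj' ((hpt _).trans hζ.symm)
  haveI : IsProper q := by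
    haveI : IsProper (q ≫ i') := by
      rw [hfac]
      infer_instance
    exact IsProper.of_comp q i'
  have hδq : Cyc.DeltaCompat q (fun w => δX (i w)) (fun z => δY (i' z)) :=
    deltaCompat_sq i i' q p hfac δX δY hδ
  have hbi := bij_of_closedImmersion i (genericPoint W)
  have hbi' := bij_of_closedImmersion i' (q (genericPoint W))
  have hg0 : (i.residueFieldMap (genericPoint W)).hom f ≠ 0 := by
    intro h0
    apply hf
    apply hbi.1
    rw [h0, map_zero]
  obtain ⟨αW, hαW⟩ := exists_cycle_single (fun w => δX (i w)) hW (genericPoint W)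
    ((i.residueFieldMap (genericPoint W)).hom f) hg0
  by_cases hy : y ∈ Set.range i'
  swap
  · have hR : Cyc.divFun δY (p (i (genericPoint W))) (Cyc.normGen p (i (genericPoint W)) f) y
        = 0 :=
      divFun_eq_zero_of_notMem_range i' δY _ ⟨q (genericPoint W), hpt _⟩ _ y hy
    rw [hR, ite_self]
    apply finsum_mem_eq_zero_of_forall_eq_zero
    intro x hx
    have hxr : x ∉ Set.range i := by
      rintro ⟨w, rfl⟩
      apply hy
      exact ⟨q w, (hpt w).trans hx⟩
    rw [divFun_eq_zero_of_notMem_range i δX _ ⟨genericPoint W, rfl⟩ f x hxr, zero_mul]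
  · obtain ⟨z, rfl⟩ := hy
    have hsum : ∑ᶠ x ∈ p ⁻¹' {i' z}, Cyc.divFun δX (i (genericPoint W)) f x *
          ((AlgebraicCycle.mapCoeff p δX δY x : ℕ) : ℤ) =
        ∑ᶠ w ∈ q ⁻¹' {z}, αW w * ((AlgebraicCycle.mapCoeff q (fun w => δX (i w))
          (fun z => δY (i' z)) w : ℕ) : ℤ) := by
      have h1 : ∑ᶠ x ∈ p ⁻¹' {i' z}, Cyc.divFun δX (i (genericPoint W)) f x *
          ((AlgebraicCycle.mapCoeff p δX δY x : ℕ) : ℤ) =
          ∑ᶠ x ∈ i '' (q ⁻¹' {z}), Cyc.divFun δX (i (genericPoint W)) f x *
          ((AlgebraicCycle.mapCoeff p δX δY x : ℕ) : ℤ) := by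
        apply finsum_mem_inter_support_eq
        ext x
        constructor
        · rintro ⟨hx, hxs⟩
          refine ⟨?_, hxs⟩
          have hxr : x ∈ Set.range i := by
            by_contra hxr
            rw [Function.mem_support] at hxs
            apply hxs
            rw [divFun_eq_zero_of_notMem_range i δX _ ⟨genericPoint W, rfl⟩ f x hxr, zero_mul]
          obtain ⟨w, rfl⟩ := hxr
          exact ⟨w, hinj' ((hpt w).trans hx), rfl⟩
        · rintro ⟨⟨w, hw, rfl⟩, hxs⟩
          exact ⟨(hpt w).symm.trans (congrArg i' hw), hxs⟩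
      rw [h1, finsum_mem_image hinj.injOn]
      apply finsum_mem_congr rfl
      intro w hw
      rw [hαW, mapCoeff_sq i i' q p hfac δX δY w]
      congr 1
      exact (divFun_transport i hind δX w (genericPoint W) (i.stalkMap_surjective w) hbi f).symm
    rw [hsum]
    change AlgebraicCycle.map q (fun w => δX (i w)) (fun z => δY (i' z)) αW z = _
    by_cases hn : δX (i (genericPoint W)) = δY (p (i (genericPoint W)))
    · rw [if_pos hn]
      have hn' : (fun w => δX (i w)) (genericPoint W) = (fun z => δY (i' z)) (genericPoint Z) := by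
        show δX (i _) = δY (i' _)
        rw [hζ]
        exact hn
      have h1 := map_divFun_eq_divFun_norm W Z (fun w => δX (i w)) (fun z => δY (i' z)) hW hZ q
        hδq hgen hn' _ hg0 αW hαW
      rw [h1]
      have h2 := normGen_sq i i' q p hfac (genericPoint W) (hpt _).symm f
      rw [← h2]
      rw [divFun_transport i' hind' δY z (q (genericPoint W)) (i'.stalkMap_surjective z) hbi' _]
      exact (divFun_congr δY (hpt _).symm _ (i' z)).symm
    · rw [if_neg hn]
      haveI : Fact (q (genericPoint W) = genericPoint Z) := ⟨hgen⟩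
      have hn' : (fun w => δX (i w)) (genericPoint W) ≠ (fun z => δY (i' z)) (genericPoint Z) := by
        show δX (i _) ≠ δY (i' _)
        rw [hζ]
        exact hn
      have h1 := push_zero q (fun w => δX (i w)) (fun z => δY (i' z)) hW hZ hδq (genericPoint W)
        rfl hn' _ hg0 αW hαW
      rw [h1]
      rfl

theorem key_gen (hX : Cyc.IsSetup X δX) (hY : Cyc.IsSetup Y δY)
    (p : X ⟶ Y) [IsProper p] (hδ : Cyc.DeltaCompat p δX δY)
    {W Z : Scheme.{u}} [IsIntegral W] [IsIntegral Z] (i : W ⟶ X) [IsClosedImmersion i]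
    (i' : Z ⟶ Y) [IsClosedImmersion i'] (q : W ⟶ Z) (hfac : q ≫ i' = i ≫ p)
    (ξ : X) (hξ : i (genericPoint W) = ξ)
    (hζ : i' (genericPoint Z) = p ξ)
    (f : X.residueField ξ) (hf : f ≠ 0) (y : Y) :
    ∑ᶠ x ∈ p ⁻¹' {y}, Cyc.divFun δX ξ f x * ((AlgebraicCycle.mapCoeff p δX δY x : ℕ) : ℤ) =
      if δX ξ = δY (p ξ) then Cyc.divFun δY (p ξ) (Cyc.normGen p ξ f) y else 0 := by
  subst hξ
  exact key_sub δX δY hX hY p hδ i i' q hfac hζ f hf y

/-- the pushforward of a principal divisor along a proper morphism, pointwise -/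
theorem key (hX : Cyc.IsSetup X δX) (hY : Cyc.IsSetup Y δY)
    (p : X ⟶ Y) [IsProper p] (hδ : Cyc.DeltaCompat p δX δY)
    (ξ : X) (f : X.residueField ξ) (hf : f ≠ 0) (y : Y) :
    ∑ᶠ x ∈ p ⁻¹' {y}, Cyc.divFun δX ξ f x * ((AlgebraicCycle.mapCoeff p δX δY x : ℕ) : ℤ) =
      if δX ξ = δY (p ξ) then Cyc.divFun δY (p ξ) (Cyc.normGen p ξ f) y else 0 :=
  key_gen δX δY hX hY p hδ (iW ξ) (iW (p ξ)) (qW p ξ) (qW_fac p ξ) ξ (iW_generic ξ)
    (iW_generic (p ξ)) f hf y

end Key

end Groth.Agent.Helper7.PushRat
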