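import Mathlib
import Groth.Prelude.Def_Cyc
import Groth.Agent.Lib.Helper7.PushRat.Key

set_option linter.style.haveILetI false
set_option linter.unusedVariables false
set_option linter.unusedSectionVars false
set_option autoImplicit false
set_option backward.isDefEq.respectTransparency.types false
set_option synthInstance.maxHeartbeats 400000
set_option maxHeartbeats 1600000

namespace Groth.Agent.Helper7.PushRat

open CategoryTheory CategoryTheory.Limits AlgebraicGeometry TopologicalSpace Opposite IsLocalRing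
open Groth.Agent.Helper7.DivFin Groth.Agent.Helper7.FinDeg Groth.Agent.Helper7.FinPush
open Groth.Agent.Helper7.KL Groth.Agent.Helper7.PDeg Groth.Agent.Helper7.GFib

universe u

/-! helper7: proper pushforward preserves rational equivalence (S1855): assembly of the pointwise identity over a locally finite family -/

section Aux

theorem finite_index_of_isCompact {X : Type*} [TopologicalSpace X] {ι : Type*} (ξ : ι → X)
    (hlf : ∀ x : X, ∃ U : Set X, IsOpen U ∧ x ∈ U ∧ {i | (closure {ξ i} ∩ U).Nonempty}.Finite)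
    (T : Set X) (hT : IsCompact T) : {i | (closure {ξ i} ∩ T).Nonempty}.Finite := by
  choose U hUo hxU hfin using hlf
  obtain ⟨t, -, ht⟩ := hT.elim_nhds_subcover U (fun x _ => (hUo x).mem_nhds (hxU x))
  refine (t.finite_toSet.biUnion (fun x _ => hfin x)).subset ?_
  rintro i ⟨x', hx'1, hx'2⟩
  obtain ⟨x, hxt, hx⟩ := Set.mem_iUnion₂.mp (ht hx'2)
  exact Set.mem_iUnion₂.mpr ⟨x, hxt, ⟨x', hx'1, hx⟩⟩

theorem finsum_mem_finset_sum_comm {α ι : Type*} (s : Set α) (t : Finset ι) (G : ι → α → ℤ)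
    (h : ∀ i ∈ t, (s ∩ Function.support (G i)).Finite) :
    ∑ᶠ x ∈ s, ∑ i ∈ t, G i x = ∑ i ∈ t, ∑ᶠ x ∈ s, G i x := by
  classical
  induction t using Finset.induction_on with
  | empty => simp
  | insert a t ha ih =>
    have hfin : (s ∩ Function.support (fun x => ∑ i ∈ t, G i x)).Finite := by
      refine (t.finite_toSet.biUnion (fun i hi => h i (Finset.mem_insert_of_mem hi))).subset ?_
      rintro x ⟨hxs, hx⟩
      rw [Function.mem_support] at hx
      have hex : ∃ i ∈ t, G i x ≠ 0 := by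
        by_contra hcon
        apply hx
        apply Finset.sum_eq_zero
        intro i hi
        by_contra hne
        exact hcon ⟨i, hi, hne⟩
      obtain ⟨i, hi, hne⟩ := hex
      exact Set.mem_iUnion₂.mpr ⟨i, hi, hxs, hne⟩
    simp only [Finset.sum_insert ha]
    rw [finsum_mem_add_distrib' (h a (Finset.mem_insert_self a t)) hfin,
      ih (fun i hi => h i (Finset.mem_insert_of_mem hi))]

theorem divFun_ne_zero_specializes {X : Scheme.{u}} (δ : X → ℤ) (ξ : X) (f : X.residueField ξ)
    (x : X) (h : Cyc.divFun δ ξ f x ≠ 0) : ξ ⤳ x := by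
  by_contra hn
  apply h
  unfold Cyc.divFun
  rw [dif_neg (fun h => hn h.1)]

end Aux

/-- proper pushforward preserves rational equivalence -/
theorem main (X Y : Scheme.{u}) (δX : X → ℤ) (δY : Y → ℤ) (hX : Cyc.IsSetup X δX)
    (hY : Cyc.IsSetup Y δY) (p : X ⟶ Y) [IsProper p] (hδ : Cyc.DeltaCompat p δX δY) (k : ℤ)
    (α β : AlgebraicCycle X ℤ) (h : Cyc.RatEquiv δX k α β) :
    Cyc.RatEquiv δY k (AlgebraicCycle.map p δX δY α) (AlgebraicCycle.map p δX δY β) := by
  classical
  obtain ⟨ι, ξ, f, hδξ, hf, hlf, hsum⟩ := h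
  have hkey : ∀ (a : ι) (y : Y), ∑ᶠ x ∈ p ⁻¹' {y}, Cyc.divFun δX (ξ a) (f a) x *
      ((AlgebraicCycle.mapCoeff p δX δY x : ℕ) : ℤ) =
      if δX (ξ a) = δY (p (ξ a)) then
        Cyc.divFun δY (p (ξ a)) (Cyc.normGen p (ξ a) (f a)) y else 0 :=
    fun a y => key δX δY hX hY p hδ (ξ a) (f a) (hf a) y
  refine ⟨{a : ι // δY (p (ξ a)) = k + 1}, fun a => p (ξ a.1),
    fun a => Cyc.normGen p (ξ a.1) (f a.1), fun a => a.2,
    fun a => normGen_ne_zero p (ξ a.1) (f a.1) (hf a.1), ?_, ?_⟩
  · intro y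
    obtain ⟨U, ⟨hUo, hUc⟩, hyU, -⟩ :=
      (PrespectralSpace.isTopologicalBasis (X := Y)).exists_subset_of_mem_open
        (Set.mem_univ y) isOpen_univ
    have hT : IsCompact (p ⁻¹' U) := p.isSpectralMap.2 hUo hUc
    refine ⟨U, hUo, hyU, ?_⟩
    have hI₀ := finite_index_of_isCompact ξ hlf (p ⁻¹' U) hT
    refine (hI₀.preimage Subtype.val_injective.injOn).subset ?_
    rintro a ⟨y', hy'1, hy'2⟩
    have hsp : p (ξ a.1) ⤳ y' := specializes_iff_mem_closure.mpr hy'1
    have hmem : p (ξ a.1) ∈ U := hsp.mem_open hUo hy'2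
    exact ⟨ξ a.1, subset_closure rfl, hmem⟩
  · intro y
    obtain ⟨U, ⟨hUo, hUc⟩, hyU, -⟩ :=
      (PrespectralSpace.isTopologicalBasis (X := Y)).exists_subset_of_mem_open
        (Set.mem_univ y) isOpen_univ
    have hT : IsCompact (p ⁻¹' U) := p.isSpectralMap.2 hUo hUc
    have hFT : p ⁻¹' {y} ⊆ p ⁻¹' U := by
      intro x hx
      show p x ∈ U
      have hx' : p x = y := hx
      rw [hx']
      exact hyU
    have hI₀ := finite_index_of_isCompact ξ hlf (p ⁻¹' U) hT
    have hfinD : ∀ a, (p ⁻¹' {y} ∩ Function.support (Cyc.divFun δX (ξ a) (f a))).Finite := by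
      intro a
      obtain ⟨D, hD⟩ := exists_cycle_single δX hX (ξ a) (f a) (hf a)
      rw [← hD]
      exact (D.locallyFiniteSupport.finite_inter_support_of_isCompact hT).subset
        (Set.inter_subset_inter_left _ hFT)
    have hfinγ : ∀ γ : AlgebraicCycle X ℤ, (p ⁻¹' {y} ∩ Function.support (fun x => γ x *
        ((AlgebraicCycle.mapCoeff p δX δY x : ℕ) : ℤ))).Finite := by
      intro γ
      refine (γ.locallyFiniteSupport.finite_inter_support_of_isCompact hT).subset ?_
      rintro x ⟨hx, hxs⟩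
      refine ⟨hFT hx, ?_⟩
      rw [Function.mem_support] at hxs ⊢
      intro h0
      apply hxs
      have h0' : γ x = 0 := h0
      rw [h0', zero_mul]
    have hL : (AlgebraicCycle.map p δX δY α - AlgebraicCycle.map p δX δY β) y =
        ∑ᶠ x ∈ p ⁻¹' {y}, (α - β) x * ((AlgebraicCycle.mapCoeff p δX δY x : ℕ) : ℤ) := by
      rw [Function.locallyFinsuppWithin.coe_sub, Pi.sub_apply]
      change (∑ᶠ x ∈ p ⁻¹' {y}, α x * ((AlgebraicCycle.mapCoeff p δX δY x : ℕ) : ℤ)) -
        (∑ᶠ x ∈ p ⁻¹' {y}, β x * ((AlgebraicCycle.mapCoeff p δX δY x : ℕ) : ℤ)) = _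
      rw [← finsum_mem_sub_distrib'' _ _ _ (hfinγ α) (hfinγ β)]
      apply finsum_mem_congr rfl
      intro x _
      rw [Function.locallyFinsuppWithin.coe_sub, Pi.sub_apply, sub_mul]
    rw [hL]
    have hx_sum : ∀ x ∈ p ⁻¹' {y}, (α - β) x * ((AlgebraicCycle.mapCoeff p δX δY x : ℕ) : ℤ) =
        ∑ a ∈ hI₀.toFinset, Cyc.divFun δX (ξ a) (f a) x *
          ((AlgebraicCycle.mapCoeff p δX δY x : ℕ) : ℤ) := by
      intro x hx
      rw [hsum x, ← Finset.sum_mul]
      congr 1
      apply finsum_eq_sum_of_support_subset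
      intro a ha
      rw [Function.mem_support] at ha
      rw [Finset.mem_coe, Set.Finite.mem_toFinset]
      exact ⟨x, specializes_iff_mem_closure.mp (divFun_ne_zero_specializes δX _ _ x ha), hFT hx⟩
    rw [finsum_mem_congr rfl hx_sum]
    rw [finsum_mem_finset_sum_comm (p ⁻¹' {y}) hI₀.toFinset
      (fun a x => Cyc.divFun δX (ξ a) (f a) x * ((AlgebraicCycle.mapCoeff p δX δY x : ℕ) : ℤ))]
    swap
    · intro a _
      refine (hfinD a).subset ?_
      rintro x ⟨hx, hxs⟩
      refine ⟨hx, ?_⟩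
      rw [Function.mem_support] at hxs ⊢
      intro h0
      apply hxs
      show Cyc.divFun δX (ξ a) (f a) x * _ = 0
      rw [h0, zero_mul]
    rw [Finset.sum_congr rfl (fun a _ => hkey a y)]
    have hR0 : ∀ a, a ∉ hI₀.toFinset → (if δX (ξ a) = δY (p (ξ a)) then
        Cyc.divFun δY (p (ξ a)) (Cyc.normGen p (ξ a) (f a)) y else 0) = 0 := by
      intro a ha
      rw [← hkey a y]
      apply finsum_mem_eq_zero_of_forall_eq_zero
      intro x hx
      have h0 : Cyc.divFun δX (ξ a) (f a) x = 0 := by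
        by_contra hne
        apply ha
        rw [Set.Finite.mem_toFinset]
        exact ⟨x, specializes_iff_mem_closure.mp (divFun_ne_zero_specializes δX _ _ x hne),
          hFT hx⟩
      rw [h0, zero_mul]
    symm
    calc ∑ᶠ a : {a : ι // δY (p (ξ a)) = k + 1},
          Cyc.divFun δY (p (ξ a.1)) (Cyc.normGen p (ξ a.1) (f a.1)) y
        = ∑ᶠ (a : ι) (_ : δY (p (ξ a)) = k + 1),
          Cyc.divFun δY (p (ξ a)) (Cyc.normGen p (ξ a) (f a)) y :=
          finsum_subtype_eq_finsum_cond
            (f := fun a => Cyc.divFun δY (p (ξ a)) (Cyc.normGen p (ξ a) (f a)) y)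
            (fun a => δY (p (ξ a)) = k + 1)
      _ = ∑ᶠ a, (if δX (ξ a) = δY (p (ξ a)) then
            Cyc.divFun δY (p (ξ a)) (Cyc.normGen p (ξ a) (f a)) y else 0) := by
          apply finsum_congr
          intro a
          rw [finsum_eq_if]
          apply if_congr _ rfl rfl
          rw [hδξ a]
          exact eq_comm
      _ = ∑ a ∈ hI₀.toFinset, (if δX (ξ a) = δY (p (ξ a)) then
            Cyc.divFun δY (p (ξ a)) (Cyc.normGen p (ξ a) (f a)) y else 0) := by
          apply finsum_eq_sum_of_support_subset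
          intro a ha
          rw [Function.mem_support] at ha
          by_contra hn
          exact ha (hR0 a hn)

end Groth.Agent.Helper7.PushRat
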